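import Groth.Agent.FormalLib.SuppProper
import Groth.Agent.DVRCrit.Local
import Groth.Agent.FerrandPush.Finite
import Groth.Prelude.Def_ClSub2

/-!
# Closed subsets proper over a base
-/

set_option autoImplicit false
set_option backward.isDefEq.respectTransparency false

universe u

open CategoryTheory CategoryTheory.Limits AlgebraicGeometry TopologicalSpace

noncomputable section

namespace Groth.Agent.ClSubLib

variable {X Y S : Scheme.{u}}

/-- Properness descends along universally closed surjections. -/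
theorem isProper_of_surjective {T T' : Scheme.{u}} (j : T ⟶ T') (q : T' ⟶ S) [UniversallyClosed j] [Surjective j]
    [IsProper (j ≫ q)] [LocallyOfFiniteType q] : IsProper q := by
  haveI : UniversallyClosed q := UniversallyClosed.of_comp_surjective j q
  let P : pullback (j ≫ q) (j ≫ q) ⟶ pullback q q :=
    pullback.map _ _ _ _ j j (𝟙 S) (Category.comp_id _) (Category.comp_id _)
  have e : pullback.diagonal (j ≫ q) ≫ P = j ≫ pullback.diagonal q := by
    apply pullback.hom_ext <;>
      simp only [P, Category.assoc, pullback.lift_fst, pullback.lift_snd, pullback.diagonal_fst,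
        pullback.diagonal_snd, pullback.diagonal_fst_assoc, pullback.diagonal_snd_assoc, Category.comp_id]
  haveI : UniversallyClosed P :=
    MorphismProperty.pullbackMap (P := @UniversallyClosed) inferInstance inferInstance rfl rfl
  have hrange : Set.range (pullback.diagonal q) = P '' Set.range (pullback.diagonal (j ≫ q)) := by
    ext z
    constructor
    · rintro ⟨w, rfl⟩
      obtain ⟨x, rfl⟩ := j.surjective w
      exact ⟨_, ⟨x, rfl⟩, by rw [← Scheme.Hom.comp_apply, e]; rfl⟩
    · rintro ⟨_, ⟨x, rfl⟩, rfl⟩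
      exact ⟨j x, by rw [← Scheme.Hom.comp_apply, ← e]; rfl⟩
  haveI : IsSeparated q := ⟨IsClosedImmersion.of_isPreimmersion _ (by
    rw [hrange]
    exact P.isClosedMap _ (pullback.diagonal (j ≫ q)).isClosedEmbedding.isClosed_range)⟩
  exact IsProper.mk

/-- Any closed subscheme with the given underlying set may be used. -/
theorem isProperOver_iff (f : X ⟶ S) [LocallyOfFiniteType f] {T : Scheme.{u}} (i : T ⟶ X) [IsClosedImmersion i]
    {Z : Set X} (hi : Set.range i = Z) : ClSub.IsProperOver f Z ↔ IsProper (i ≫ f) := by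
  have hcl : IsClosed Z := hi ▸ i.isClosedEmbedding.isClosed_range
  let V := Scheme.IdealSheafData.vanishingIdeal (⟨Z, hcl⟩ : Closeds X)
  have hle : i.ker ≤ V := by
    refine Scheme.IdealSheafData.le_support_iff_le_vanishingIdeal.1 fun x hx => ?_
    show x ∈ (i.ker.support : Set X)
    rw [Scheme.Hom.support_ker, hi]
    exact subset_closure hx
  let j : V.subscheme ⟶ T := IsClosedImmersion.lift i V.subschemeι
    (by rw [Scheme.IdealSheafData.ker_subschemeι]; exact hle)
  have hj : j ≫ i = V.subschemeι := IsClosedImmersion.lift_fac _ _ _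
  haveI : IsClosedImmersion (j ≫ i) := by rw [hj]; infer_instance
  haveI : IsClosedImmersion j := IsClosedImmersion.of_comp j i
  haveI : Surjective j := ⟨fun t => by
    have ht : i t ∈ Set.range V.subschemeι := by
      rw [Scheme.IdealSheafData.range_subschemeι, Scheme.IdealSheafData.coe_support_vanishingIdeal]
      exact hi ▸ ⟨t, rfl⟩
    obtain ⟨v, hv⟩ := ht
    exact ⟨v, i.isClosedEmbedding.injective (by rw [← hv, ← hj]; rfl)⟩⟩
  constructor
  · rintro ⟨h, hp⟩
    haveI : IsProper (j ≫ i ≫ f) := by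
      rw [← Category.assoc, hj]
      exact hp
    exact isProper_of_surjective j _
  · intro hp
    refine ⟨hcl, ?_⟩
    show IsProper (V.subschemeι ≫ f)
    rw [← hj, Category.assoc]
    infer_instance

/-- The reduced closed subscheme. -/
theorem exists_model (f : X ⟶ S) {Z : Set X} (hZ : ClSub.IsProperOver f Z) :
    ∃ (T : Scheme.{u}) (i : T ⟶ X), IsClosedImmersion i ∧ IsReduced T ∧ Set.range i = Z ∧ IsProper (i ≫ f) := by
  obtain ⟨h, hp⟩ := hZ
  refine ⟨_, (Scheme.IdealSheafData.vanishingIdeal ⟨Z, h⟩).subschemeι, inferInstance,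
    DVRCrit.isReduced_vanishingIdeal _, ?_, hp⟩
  rw [Scheme.IdealSheafData.range_subschemeι, Scheme.IdealSheafData.coe_support_vanishingIdeal]
  rfl

theorem isProperOver_subset (f : X ⟶ S) {Z Z' : Set X} (hZ : ClSub.IsProperOver f Z) (h : IsClosed Z')
    (hsub : Z' ⊆ Z) : ClSub.IsProperOver f Z' := by
  obtain ⟨hcl, hp⟩ := hZ
  haveI := hp
  have hle : Scheme.IdealSheafData.vanishingIdeal ⟨Z, hcl⟩ ≤ Scheme.IdealSheafData.vanishingIdeal ⟨Z', h⟩ :=
    Scheme.IdealSheafData.vanishingIdeal_antimono hsub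
  refine ⟨h, ?_⟩
  rw [← Scheme.IdealSheafData.inclusion_subschemeι hle, Category.assoc]
  infer_instance

/-- Images under universally closed maps. -/
theorem isProperOver_image (p : X ⟶ S) (q : Y ⟶ S) [LocallyOfFiniteType q] (f : X ⟶ Y) (w : f ≫ q = p)
    {Z : Set X} (hZ : ClSub.IsProperOver p Z) (huc : UniversallyClosed f ∨ IsSeparated q) :
    ClSub.IsProperOver q (f '' Z) := by
  obtain ⟨T, i, hi, -, hr, hp⟩ := exists_model p hZ
  haveI := hi
  haveI : IsProper ((i ≫ f) ≫ q) := by rw [Category.assoc, w]; exact hp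
  haveI : UniversallyClosed (i ≫ f) := by
    rcases huc with h | h
    · haveI := h
      infer_instance
    · haveI := h
      exact UniversallyClosed.of_comp_of_isSeparated (i ≫ f) q
  have himg : Set.range (i ≫ f).imageι = f '' Z := by
    rw [Scheme.IdealSheafData.range_subschemeι, Scheme.Hom.support_ker, IsClosed.closure_eq
      (i ≫ f).isClosedMap.isClosed_range, ← hr, ← Set.range_comp]
    rfl
  haveI : Surjective (i ≫ f).toImage := ⟨fun z => by
    obtain ⟨x, hx⟩ : (i ≫ f).imageι z ∈ Set.range (i ≫ f) := by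
      have : (i ≫ f).imageι z ∈ f '' Z := himg ▸ ⟨z, rfl⟩
      rw [← hr, ← Set.range_comp] at this
      exact this
    refine ⟨x, (i ≫ f).imageι.isClosedEmbedding.injective ?_⟩
    rw [← hx, ← Scheme.Hom.comp_apply, Scheme.Hom.toImage_imageι]⟩
  haveI : IsProper ((i ≫ f).toImage ≫ (i ≫ f).imageι ≫ q) := by
    rw [← Category.assoc, Scheme.Hom.toImage_imageι]
    infer_instance
  exact (isProperOver_iff q (i ≫ f).imageι himg).2 (isProper_of_surjective (i ≫ f).toImage _)

/-- Preimages. -/
theorem isProperOver_preimage (p : X ⟶ S) (q : Y ⟶ S) [LocallyOfFiniteType p] (f : X ⟶ Y) [IsProper f]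
    (w : f ≫ q = p) {Z : Set Y} (hZ : ClSub.IsProperOver q Z) : ClSub.IsProperOver p (f ⁻¹' Z) := by
  obtain ⟨T, i, hi, -, hr, hp⟩ := exists_model q hZ
  haveI := hi
  haveI := hp
  have hrange : Set.range (pullback.fst f i) = f ⁻¹' Z := by
    rw [Scheme.Pullback.range_fst, hr]
  refine (isProperOver_iff p (pullback.fst f i) hrange).2 ?_
  rw [← w, pullback.condition_assoc]
  infer_instance

/-- Base change. -/
theorem isProperOver_baseChange (f : X ⟶ S) [LocallyOfFiniteType f] {X' S' : Scheme.{u}} (g : S' ⟶ S)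
    (g' : X' ⟶ X) (f' : X' ⟶ S') (sq : IsPullback g' f' f g) {Z : Set X} (hZ : ClSub.IsProperOver f Z) :
    ClSub.IsProperOver f' (g' ⁻¹' Z) := by
  obtain ⟨T, i, hi, -, hr, hp⟩ := exists_model f hZ
  haveI := hi
  haveI := hp
  haveI : LocallyOfFiniteType f' := MorphismProperty.of_isPullback (P := @LocallyOfFiniteType) sq ‹_›
  have hrange : Set.range (pullback.fst g' i) = g' ⁻¹' Z := by
    rw [Scheme.Pullback.range_fst, hr]
  refine (isProperOver_iff f' (pullback.fst g' i) hrange).2 ?_
  exact MorphismProperty.of_isPullback (P := @IsProper)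
    ((IsPullback.of_hasPullback g' i).flip.paste_vert sq) hp

/-- Two subsets. -/
theorem isProperOver_union (f : X ⟶ S) [LocallyOfFiniteType f] {Z₁ Z₂ : Set X} (h₁ : ClSub.IsProperOver f Z₁)
    (h₂ : ClSub.IsProperOver f Z₂) : ClSub.IsProperOver f (Z₁ ∪ Z₂) := by
  obtain ⟨T₁, i₁, hi₁, hr₁', hr₁, hp₁⟩ := exists_model f h₁
  obtain ⟨T₂, i₂, hi₂, hr₂', hr₂, hp₂⟩ := exists_model f h₂
  haveI := hi₁
  haveI := hi₂
  have hcl : IsClosed (Z₁ ∪ Z₂) := hr₁ ▸ hr₂ ▸ i₁.isClosedEmbedding.isClosed_range.union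
    i₂.isClosedEmbedding.isClosed_range
  let V := Scheme.IdealSheafData.vanishingIdeal (⟨Z₁ ∪ Z₂, hcl⟩ : Closeds X)
  have hle : ∀ {T : Scheme.{u}} (i : T ⟶ X) [IsClosedImmersion i] [IsReduced T], Set.range i ⊆ Z₁ ∪ Z₂ →
      V ≤ i.ker := fun {T} i _ _ hsub => by
    have : i.ker = Scheme.IdealSheafData.vanishingIdeal i.ker.support := by
      rw [Scheme.IdealSheafData.vanishingIdeal_support]
      refine le_antisymm (Scheme.IdealSheafData.le_radical _) fun U a ha => ?_
      rw [Scheme.Hom.ker_apply, RingHom.mem_ker]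
      obtain ⟨n, hn⟩ := ha
      rw [Scheme.Hom.ker_apply, RingHom.mem_ker, map_pow] at hn
      exact IsReduced.eq_zero _ ⟨n, hn⟩
    rw [this]
    refine Scheme.IdealSheafData.vanishingIdeal_antimono ?_
    intro x hx
    have hx' : x ∈ (i.ker.support : Set X) := hx
    rw [Scheme.Hom.support_ker, IsClosed.closure_eq i.isClosedEmbedding.isClosed_range] at hx'
    exact hsub hx'
  haveI := hr₁'
  haveI := hr₂'
  let j₁ : T₁ ⟶ V.subscheme := IsClosedImmersion.lift V.subschemeι i₁
    (by rw [Scheme.IdealSheafData.ker_subschemeι]; exact hle i₁ (hr₁ ▸ Set.subset_union_left))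
  let j₂ : T₂ ⟶ V.subscheme := IsClosedImmersion.lift V.subschemeι i₂
    (by rw [Scheme.IdealSheafData.ker_subschemeι]; exact hle i₂ (hr₂ ▸ Set.subset_union_right))
  have e₁ : j₁ ≫ V.subschemeι = i₁ := IsClosedImmersion.lift_fac _ _ _
  have e₂ : j₂ ≫ V.subschemeι = i₂ := IsClosedImmersion.lift_fac _ _ _
  haveI : IsClosedImmersion (j₁ ≫ V.subschemeι) := by rw [e₁]; infer_instance
  haveI : IsClosedImmersion (j₂ ≫ V.subschemeι) := by rw [e₂]; infer_instance
  haveI : IsClosedImmersion j₁ := IsClosedImmersion.of_comp j₁ V.subschemeι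
  haveI : IsClosedImmersion j₂ := IsClosedImmersion.of_comp j₂ V.subschemeι
  let q := V.subschemeι ≫ f
  haveI : IsProper (j₁ ≫ q) := by rw [← Category.assoc, e₁]; exact hp₁
  haveI : IsProper (j₂ ≫ q) := by rw [← Category.assoc, e₂]; exact hp₂
  have hsurj : ∀ z, (∃ x, j₁ x = z) ∨ ∃ y, j₂ y = z := fun z => by
    have hz : V.subschemeι z ∈ Z₁ ∪ Z₂ := by
      have : V.subschemeι z ∈ Set.range V.subschemeι := ⟨z, rfl⟩
      rwa [Scheme.IdealSheafData.range_subschemeι, Scheme.IdealSheafData.coe_support_vanishingIdeal] at this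
    rcases hz with h | h
    · obtain ⟨x, hx⟩ := hr₁.symm ▸ h
      exact Or.inl ⟨x, V.subschemeι.isClosedEmbedding.injective (by rw [← hx, ← e₁]; rfl)⟩
    · obtain ⟨x, hx⟩ := hr₂.symm ▸ h
      exact Or.inr ⟨x, V.subschemeι.isClosedEmbedding.injective (by rw [← hx, ← e₂]; rfl)⟩
  haveI := FerrandPush.universallyClosed_of_jointly_surjective hsurj q
  let A : pullback (j₁ ≫ q) (j₁ ≫ q) ⟶ pullback q q :=
    pullback.map _ _ _ _ j₁ j₁ (𝟙 S) (Category.comp_id _) (Category.comp_id _)
  let B : pullback (j₂ ≫ q) (j₂ ≫ q) ⟶ pullback q q :=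
    pullback.map _ _ _ _ j₂ j₂ (𝟙 S) (Category.comp_id _) (Category.comp_id _)
  have eA : pullback.diagonal (j₁ ≫ q) ≫ A = j₁ ≫ pullback.diagonal q := by
    apply pullback.hom_ext <;> simp only [A, Category.assoc, pullback.lift_fst, pullback.lift_snd, pullback.diagonal_fst, pullback.diagonal_snd, pullback.diagonal_fst_assoc, pullback.diagonal_snd_assoc, Category.comp_id]
  have eB : pullback.diagonal (j₂ ≫ q) ≫ B = j₂ ≫ pullback.diagonal q := by
    apply pullback.hom_ext <;> simp only [B, Category.assoc, pullback.lift_fst, pullback.lift_snd, pullback.diagonal_fst, pullback.diagonal_snd, pullback.diagonal_fst_assoc, pullback.diagonal_snd_assoc, Category.comp_id]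
  haveI : IsClosedImmersion A :=
    MorphismProperty.pullbackMap (P := @IsClosedImmersion) inferInstance inferInstance rfl rfl
  haveI : IsClosedImmersion B :=
    MorphismProperty.pullbackMap (P := @IsClosedImmersion) inferInstance inferInstance rfl rfl
  have hrange : Set.range (pullback.diagonal q) =
      A '' Set.range (pullback.diagonal (j₁ ≫ q)) ∪ B '' Set.range (pullback.diagonal (j₂ ≫ q)) := by
    ext z
    constructor
    · rintro ⟨w, rfl⟩
      rcases hsurj w with ⟨x, rfl⟩ | ⟨y, rfl⟩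
      · exact Or.inl ⟨_, ⟨x, rfl⟩, by rw [← Scheme.Hom.comp_apply, eA]; rfl⟩
      · exact Or.inr ⟨_, ⟨y, rfl⟩, by rw [← Scheme.Hom.comp_apply, eB]; rfl⟩
    · rintro (⟨_, ⟨x, rfl⟩, rfl⟩ | ⟨_, ⟨y, rfl⟩, rfl⟩)
      · exact ⟨j₁ x, by rw [← Scheme.Hom.comp_apply, ← eA]; rfl⟩
      · exact ⟨j₂ y, by rw [← Scheme.Hom.comp_apply, ← eB]; rfl⟩
  haveI : IsSeparated q := ⟨IsClosedImmersion.of_isPreimmersion _ (by
    rw [hrange]
    exact (A.isClosedMap _ (pullback.diagonal (j₁ ≫ q)).isClosedEmbedding.isClosed_range).union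
      (B.isClosedMap _ (pullback.diagonal (j₂ ≫ q)).isClosedEmbedding.isClosed_range))⟩
  exact ⟨hcl, IsProper.mk⟩

theorem isProperOver_iUnion (f : X ⟶ S) [LocallyOfFiniteType f] {ι : Type} [Finite ι] (Z : ι → Set X)
    (hZ : ∀ i, ClSub.IsProperOver f (Z i)) : ClSub.IsProperOver f (Set.iUnion Z) := by
  classical
  cases nonempty_fintype ι
  have h : ∀ s : Finset ι, ClSub.IsProperOver f (⋃ i ∈ s, Z i) := fun s => by
    induction s using Finset.induction_on with
    | empty =>
      simp only [Finset.notMem_empty, Set.iUnion_of_empty, Set.iUnion_empty]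
      have : Set.range (⊤ : X.IdealSheafData).subschemeι = ∅ := by
        rw [Scheme.IdealSheafData.range_subschemeι, Scheme.IdealSheafData.support_top]
        rfl
      refine (isProperOver_iff f (⊤ : X.IdealSheafData).subschemeι this).2 ?_
      infer_instance
    | insert a s ha ih =>
      rw [Finset.set_biUnion_insert]
      exact isProperOver_union f (hZ a) ih
  have := h Finset.univ
  simp only [Finset.mem_univ, Set.iUnion_true] at this
  exact this

end Groth.Agent.ClSubLib
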