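import Groth.Agent.FormalLib.SuppProper
import Groth.Agent.DCohLib.ClosedPush
import Groth.Agent.QCohLib.FiniteType
import Groth.Agent.DevLib.Closed
import Groth.Agent.PullbackMod.Props
import Groth.Agent.ClSubLib.ProperOver

/-!
# The scheme-theoretic support
-/

set_option autoImplicit false
set_option backward.isDefEq.respectTransparency false
set_option linter.style.haveILetI false

universe u

open CategoryTheory CategoryTheory.Limits AlgebraicGeometry TopologicalSpace Opposite
open Groth.Agent.CohBase Groth.Agent.PullbackMod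

noncomputable section

namespace Groth.Agent.ClSubLib

variable {X : Scheme.{u}}

lemma res_smul' {M : X.Modules} {V V' : X.Opens} (h : V' ≤ V) (a : Γ(X, V)) (s : Γ(M, V)) :
    M.presheaf.map (homOfLE h).op (a • s) =
      X.presheaf.map (homOfLE h).op a • M.presheaf.map (homOfLE h).op s :=
  M.val.map_smul (homOfLE h).op a s

theorem map_annihilator {M : X.Modules} [Coh.IsQCoh M] (hft : CohB1.IsFT M) (U : X.affineOpens) (g : Γ(X, U.1)) :
    (Module.annihilator Γ(X, U.1) Γ(M, U.1)).map (X.presheaf.map (homOfLE (X.basicOpen_le g)).op).hom =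
      Module.annihilator Γ(X, X.basicOpen g) Γ(M, X.basicOpen g) := by
  classical
  have hgW := X.basicOpen_le g
  let r : Γ(X, U.1) →+* Γ(X, X.basicOpen g) := (X.presheaf.map (homOfLE hgW).op).hom
  have hu : ∀ k, IsUnit (r (g ^ k)) := fun k => by
    rw [map_pow]
    exact (RingedSpace.isUnit_res_basicOpen _ g).pow k
  refine le_antisymm ?_ ?_
  · rw [Ideal.map_le_iff_le_comap]
    intro c hc
    refine Module.mem_annihilator.2 fun t => ?_
    obtain ⟨n, s, hs⟩ := exists_pow_extend M U.2 g rfl t
    refine (hu n).smul_left_cancel.1 ?_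
    rw [smul_comm, smul_zero]
    show r c • (r (g ^ n) • t) = 0
    rw [show r (g ^ n) • t = M.presheaf.map (homOfLE hgW).op s from hs.symm, ← res_smul',
      Module.mem_annihilator.1 hc s, map_zero]
  · intro c hc
    haveI := QCohLib.finite_sections M hft U.2
    obtain ⟨b, gen, hgen⟩ := Module.Finite.exists_fin (R := Γ(X, U.1)) (M := Γ(M, U.1))
    letI : Algebra Γ(X, U.1) Γ(X, X.basicOpen g) := r.toAlgebra
    haveI : IsLocalization.Away g Γ(X, X.basicOpen g) := U.2.isLocalization_basicOpen g
    obtain ⟨⟨a, s⟩, hs⟩ := IsLocalization.surj (Submonoid.powers g) c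
    obtain ⟨k, hk⟩ := s.2
    have hk' : c * r (g ^ k) = r a := by
      rw [show g ^ k = s.1 from hk]
      exact hs
    have hz : ∀ l, ∃ n : ℕ, g ^ n • (a • gen l) = 0 := fun l => by
      obtain ⟨n, hn⟩ := exists_pow_zero M U.2 g rfl (a • gen l) (by
        rw [res_smul']
        show r a • _ = 0
        rw [← hk', mul_smul]
        exact Module.mem_annihilator.1 hc _)
      refine ⟨n, ?_⟩
      rw [sc_apply] at hn
      simpa using hn
    choose n hn using hz
    let N := Finset.univ.sup n
    have hmem : g ^ N * a ∈ Module.annihilator Γ(X, U.1) Γ(M, U.1) := by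
      refine Module.mem_annihilator.2 fun m => ?_
      have : (g ^ N * a) • (LinearMap.id : Γ(M, U.1) →ₗ[Γ(X, U.1)] Γ(M, U.1)) = 0 := by
        refine LinearMap.ext_on_range hgen fun l => ?_
        obtain ⟨d, hd⟩ := Nat.exists_eq_add_of_le (Finset.le_sup (f := n) (Finset.mem_univ l))
        show (g ^ N * a) • gen l = 0
        rw [show N = d + n l by simp only [N]; omega, pow_add, mul_assoc, mul_smul, mul_smul, hn, smul_zero]
      exact LinearMap.congr_fun this m
    obtain ⟨v, hv⟩ := hu (N + k)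
    have : c = v⁻¹.1 * r (g ^ N * a) := by
      rw [map_mul, ← hk', mul_left_comm (r (g ^ N)) c (r (g ^ k)), ← map_mul, ← pow_add, mul_left_comm, ← hv,
        Units.inv_mul, mul_one]
    rw [this]
    exact Ideal.mul_mem_left _ _ (Ideal.mem_map_of_mem _ hmem)

/-- The annihilator ideal sheaf of a module of finite type. -/
def annIdeal (M : X.Modules) [Coh.IsQCoh M] (hft : CohB1.IsFT M) : X.IdealSheafData :=
  Scheme.IdealSheafData.mkOfMemSupportIff (fun U => Module.annihilator Γ(X, U.1) Γ(M, U.1))
    (fun U g => map_annihilator hft U g) (CohB1.support M) fun U x hx => by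
      haveI := QCohLib.finite_sections M hft U.2
      have h1 : x ∈ CohB1.support M ↔ U.2.primeIdealOf ⟨x, hx⟩ ∈ Module.support Γ(X, U.1) Γ(M, U.1) := by
        rw [← AssLib.nontrivial_stalk_iff U.2 hx]
        exact not_subsingleton_iff_nontrivial
      have hU : IsAffineOpen U.1 := U.2
      have hz := hU.fromSpec_image_zeroLocus (Module.annihilator Γ(X, U.1) Γ(M, U.1) : Set Γ(X, U.1))
      rw [h1, Module.support_eq_zeroLocus]
      constructor
      · intro h
        have : x ∈ hU.fromSpec '' PrimeSpectrum.zeroLocus _ := ⟨_, h, hU.fromSpec_primeIdealOf ⟨x, hx⟩⟩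
        rw [hz] at this
        exact this.1
      · intro h
        obtain ⟨P, hP, he⟩ : x ∈ hU.fromSpec '' PrimeSpectrum.zeroLocus _ := hz.ge ⟨h, hx⟩
        rwa [show hU.primeIdealOf ⟨x, hx⟩ = P from
          hU.fromSpec.isOpenEmbedding.injective ((hU.fromSpec_primeIdealOf _).trans he.symm)]

lemma range_annIdeal (M : X.Modules) [Coh.IsQCoh M] (hft : CohB1.IsFT M) :
    Set.range (annIdeal M hft).subschemeι = CohB1.support M := by
  rw [Scheme.IdealSheafData.range_subschemeι]
  rfl

variable {Z : Scheme.{u}} (i : Z ⟶ X) [IsClosedImmersion i]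

/-- Germs of the kernel of a closed immersion. -/
theorem germ_mem_span_of_stalkMap_eq_zero (W : X.affineOpens) (x : Z) (hx : i x ∈ W.1) (f : Γ(X, W.1))
    (hf : i.stalkMap x (X.presheaf.germ W.1 (i x) hx f) = 0) :
    X.presheaf.germ W.1 (i x) hx f ∈ (i.ker.ideal W).map (X.presheaf.germ W.1 (i x) hx).hom := by
  rw [Scheme.Hom.germ_stalkMap_apply] at hf
  obtain ⟨O, hxO, j₁, j₂, hO⟩ := TopCat.Presheaf.germ_eq Z.presheaf x (U := i ⁻¹ᵁ W.1)
    (V := i ⁻¹ᵁ W.1) hx hx (i.app W.1 f) 0 (hf.trans (map_zero _).symm)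
  obtain ⟨O', hO', hOO'⟩ := (i.isClosedEmbedding.isInducing.isOpen_iff).1 O.2
  have hxO' : i x ∈ O' := by
    have : x ∈ (i ⁻¹' O' : Set Z) := by rw [hOO']; exact hxO
    exact this
  obtain ⟨g, hgle, hxg⟩ := W.2.exists_basicOpen_le ⟨i x, (show i x ∈ (⟨O', hO'⟩ : X.Opens) from hxO')⟩ hx
  let Dg : X.affineOpens := X.affineBasicOpen g
  have hle : i ⁻¹ᵁ Dg.1 ≤ O := fun z hz => by
    show z ∈ O.carrier
    rw [← hOO']
    exact hgle hz
  let r := X.presheaf.map (homOfLE (X.basicOpen_le g)).op
  have h0 : r f ∈ RingHom.ker (i.app Dg.1).hom := by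
    rw [RingHom.mem_ker]
    refine (congr($(i.naturality (homOfLE (X.basicOpen_le g)).op) f)).trans ?_
    show Z.presheaf.map _ (i.app W.1 f) = 0
    have h := congrArg (Z.presheaf.map (homOfLE hle).op) hO
    rw [map_zero, map_zero] at h
    rw [← CommRingCat.comp_apply, ← Z.presheaf.map_comp] at h
    exact h
  rw [← Scheme.Hom.ker_apply, ← i.ker.map_ideal_basicOpen W g] at h0
  have h := Ideal.mem_map_of_mem (X.presheaf.germ Dg.1 (i x) hxg).hom h0
  rw [Ideal.map_map, ← CommRingCat.hom_comp] at h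
  erw [X.presheaf.germ_res] at h
  rw [← X.presheaf.germ_res_apply (homOfLE (X.basicOpen_le g)) (i x) hxg f]
  exact h

/-- A module killed by the ideal of a closed subscheme lives on it. -/
theorem suppOn_of_killed (F : X.Modules) [Coh.IsQCoh F] (hk : ClSub.KilledByIdeal i.ker F) :
    DCohLib.SuppOn i F := by
  have haff : ∀ y : X, ∃ W : X.affineOpens, y ∈ W.1 := fun y => by
    obtain ⟨_, ⟨W, hW, rfl⟩, hyW, -⟩ :=
      X.isBasis_affineOpens.exists_subset_of_mem_open (Set.mem_univ y) isOpen_univ
    exact ⟨⟨W, hW⟩, hyW⟩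
  have key : ∀ (W : X.affineOpens) (y : X) (hy : y ∈ W.1), ∀ b ∈ (i.ker.ideal W).map (X.presheaf.germ W.1 y hy).hom,
      ∀ w : F.presheaf.stalk y, b • w = 0 := by
    intro W y hy b hb
    letI : Algebra Γ(X, W.1) (X.presheaf.stalk y) := TopCat.Presheaf.algebra_section_stalk X.presheaf ⟨y, hy⟩
    haveI := W.2.isLocalization_stalk ⟨y, hy⟩
    letI := Module.compHom (F.presheaf.stalk y) (X.presheaf.germ W.1 y hy).hom
    haveI := FlatLocus.isLocalizedModule_germL F W.2 y hy
    induction hb using Submodule.span_induction with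
    | mem b hb =>
      obtain ⟨c, hc, rfl⟩ := hb
      intro w
      obtain ⟨⟨m, t⟩, hmt⟩ := IsLocalizedModule.surj (AssLib.pr W.2 hy).primeCompl (FlatLocus.germL F W.1 y hy) w
      have hu : IsUnit (algebraMap Γ(X, W.1) (X.presheaf.stalk y) t.1) := IsLocalization.map_units _ t
      refine hu.smul_eq_zero.1 ?_
      rw [smul_comm]
      show X.presheaf.germ W.1 y hy c • (t.1 • w) = 0
      rw [show t.1 • w = t • w from rfl, hmt]
      refine (map_smul (FlatLocus.germL F W.1 y hy) c m).symm.trans ?_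
      rw [hk W c hc m, map_zero]
    | zero => intro w; exact zero_smul _ w
    | add b c _ _ hb hc => intro w; rw [add_smul, hb w, hc w, add_zero]
    | smul r b _ hb => intro w; rw [smul_eq_mul, mul_smul, hb w, smul_zero]
  refine ⟨fun y hy => ?_, fun x a ha z => ?_⟩
  · obtain ⟨W, hyW⟩ := haff y
    have hy' : y ∉ X.zeroLocus (U := W.1) (i.ker.ideal W) := fun h => hy <| by
      have : y ∈ (i.ker.support : Set X) := (Scheme.IdealSheafData.mem_support_iff_of_mem hyW).2 h
      rwa [Scheme.Hom.support_ker, IsClosed.closure_eq i.isClosedEmbedding.isClosed_range] at this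
    rw [Scheme.mem_zeroLocus_iff] at hy'
    push Not at hy'
    obtain ⟨c, hc, hcy⟩ := hy'
    have hu : IsUnit (X.presheaf.germ W.1 y hyW c) := (X.mem_basicOpen c y hyW).1 hcy
    exact subsingleton_of_forall_eq 0 fun w => hu.smul_eq_zero.1 (key W y hyW _ (Ideal.mem_map_of_mem _ hc) w)
  · obtain ⟨W, hxW⟩ := haff (i x)
    letI : Algebra Γ(X, W.1) (X.presheaf.stalk (i x)) :=
      TopCat.Presheaf.algebra_section_stalk X.presheaf ⟨i x, hxW⟩
    haveI := W.2.isLocalization_stalk ⟨i x, hxW⟩
    obtain ⟨⟨f, s⟩, hfs⟩ := IsLocalization.surj (AssLib.pr (show IsAffineOpen W.1 from W.2) hxW).primeCompl a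
    have hf0 : i.stalkMap x (X.presheaf.germ W.1 (i x) hxW f) = 0 := by
      rw [show X.presheaf.germ W.1 (i x) hxW f = algebraMap Γ(X, W.1) (X.presheaf.stalk (i x)) f from rfl, ← hfs,
        map_mul, ha, zero_mul]
    have hu : IsUnit (algebraMap Γ(X, W.1) (X.presheaf.stalk (i x)) s.1) := IsLocalization.map_units _ s
    refine hu.smul_eq_zero.1 ?_
    rw [← mul_smul, mul_comm, hfs]
    exact key W (i x) hxW _ (germ_mem_span_of_stalkMap_eq_zero i W x hxW f hf0) z

/-- A module killed by the ideal of a closed subscheme is a direct image. -/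
theorem exists_iso_push_of_killed (F : X.Modules) [Coh.IsQCoh F] (hk : ClSub.KilledByIdeal i.ker F) :
    Nonempty ((Scheme.Modules.pushforward i).obj ((Scheme.Modules.pullback i).obj F) ≅ F) := by
  haveI := DCohLib.isIso_unit_of_suppOn i (suppOn_of_killed i F hk)
  exact ⟨(asIso ((Scheme.Modules.pullbackPushforwardAdjunction i).unit.app F)).symm⟩

theorem killed_annIdeal (M : X.Modules) [Coh.IsQCoh M] (hft : CohB1.IsFT M) :
    ClSub.KilledByIdeal (annIdeal M hft).subschemeι.ker M := by
  rw [Scheme.IdealSheafData.ker_subschemeι]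
  exact fun U a ha m => Module.mem_annihilator.1 ha m

omit [IsClosedImmersion i] in
lemma support_pushforward_subset [IsClosedImmersion i] (G : Z.Modules) :
    CohB1.support ((Scheme.Modules.pushforward i).obj G) ⊆ Set.range i := fun y hy =>
  by_contra fun h => hy (DCohLib.subsingleton_stalk_pushforward i G y h)

/-- Supports of inverse images. -/
theorem support_pullback_subset {X' : Scheme.{u}} (g : X' ⟶ X) (M : X.Modules) [Coh.IsQCoh M] :
    CohB1.support ((Scheme.Modules.pullback g).obj M) ⊆ g ⁻¹' CohB1.support M := by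
  intro x' hx'
  by_contra h
  refine hx' ?_
  letI := (g.stalkMap x').hom.toAlgebra
  obtain ⟨φ, -⟩ := PullbackMod.exists_pullback_stalk_equiv g M x'
  haveI : Subsingleton (M.presheaf.stalk (g x')) := not_not.1 h
  refine φ.symm.toEquiv.subsingleton_congr.2 (subsingleton_of_forall_eq 0 fun c => ?_)
  induction c using TensorProduct.induction_on with
  | zero => rfl
  | tmul b m => rw [Subsingleton.elim m 0, TensorProduct.tmul_zero]
  | add p q hp hq => rw [hp, hq, add_zero]

end Groth.Agent.ClSubLib
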